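import Cfsg.Agent.BH.Defs
import Cfsg.Agent.KM.Mu.B
import Cfsg.Agent.TO.Can1
import Cfsg.Agent.H646.UCov
import Cfsg.Agent.S0913
import Cfsg.Agent.S0959
import Cfsg.Agent.CharactersDeep.CosetAverage
import Cfsg.Agent.CharactersDeep.FeitLinear
import Cfsg.Agent.CharactersDeep.IrrEquiv

/-!
# BH, `boxFIN`: the defect group does not centralize its intersection with a normal subgroup (helper74)
-/

set_option autoImplicit false
set_option linter.style.haveILetI false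
set_option linter.unusedSectionVars false

open Cfsg

namespace Cfsg.Agent.BH.Perm

open Cfsg.Agent Cfsg.Agent.Characters.Core Cfsg.Agent.Blocks Cfsg.Agent.TID.Red Cfsg.Agent.KM.BK Cfsg.Agent.TO
open Cfsg.Agent.H591.Reynolds (IsStab)
open Cfsg.Agent.KM.Mu (df df_add df_le)
open Cfsg.Agent.H592.Transport

variable {p : ℕ} [Fact p.Prime] {M : Ideal AlgInt} {G : Type} [Group G] [Finite G]
  {B : Set (IrrCharacter G)} {D : Subgroup G}

theorem inf_sup_center (hD : IsPGroup p D) (hZ : ¬ p ∣ Nat.card (Subgroup.center G)) (N : Subgroup G) [N.Normal] :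
    D ⊓ (N ⊔ Subgroup.center G) = D ⊓ N := by
  refine le_antisymm ?_ (inf_le_inf_left D le_sup_left)
  rintro d ⟨hd, hd'⟩
  refine ⟨hd, (QuotientGroup.eq_one_iff d).1 ?_⟩
  obtain ⟨n, hn, z, hz, h4⟩ := Subgroup.mem_sup_of_normal_right.1 hd'
  obtain ⟨k, hk⟩ := hD ⟨d, hd⟩
  have h1 : d ^ p ^ k = 1 := congrArg Subtype.val hk
  have h6 : z ^ Nat.card (Subgroup.center G) = 1 :=
    congrArg Subtype.val (pow_card_eq_one' (x := (⟨z, hz⟩ : Subgroup.center G)))
  refine KM.Mu.eq_one_of_coprime (p := p) (k := k) ?_ ?_ hZ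
  · rw [← QuotientGroup.mk_pow, h1, QuotientGroup.mk_one]
  · rw [← h4, QuotientGroup.mk_mul, (QuotientGroup.eq_one_iff n).2 hn, one_mul, ← QuotientGroup.mk_pow, h6,
      QuotientGroup.mk_one]

theorem df_eq (hM : IsPModular p M) (hB : IsPBlock M B) (hD : IsDefectGroup p M B D) (hz : EQ p B)
    {χ : IrrCharacter G} (hχ : χ ∈ B) : df p χ = nc p D := by
  refine le_antisymm (df_le hM hB hD hχ) (H592.Defect.card_defect_le p hM hB hD fun ψ hψ => ?_)
  have h1 := hz χ hχ ψ hψ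
  have h2 := df_add (p := p) χ
  change _ ≤ nu p ψ + _
  omega

omit [Finite G] in
theorem fixes_iff {N : Subgroup G} [N.Normal] {g : G} {ψ : IrrCharacter N} :
    Fixes N g (ψ : N → ℂ) ↔ Covering.conjIrr N g ψ = ψ := by
  refine ⟨fun h => Subtype.ext (funext fun n => h n _ (MulAut.conjNormal_apply g n)), fun h n n' h1 => ?_⟩
  conv_rhs => rw [← h]
  exact congrArg (ψ : N → ℂ) (Subtype.ext (h1.trans (MulAut.conjNormal_apply g n).symm))

omit [Finite G] in
theorem all_fixed {N : Subgroup G} [N.Normal] {b : Set (IrrCharacter N)} (hst : IsStab b ⊤)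
    (hgen : ∀ (N : Subgroup G) [N.Normal], D ≤ N → N = ⊤) (h : ∀ d ∈ D, ∀ ψ ∈ b, Fixes N d (ψ : N → ℂ)) (g : G) :
    ∀ ψ ∈ b, Fixes N g (ψ : N → ℂ) := by
  let F : Subgroup G :=
    { carrier := {g | ∀ ψ ∈ b, Covering.conjIrr N g ψ = ψ}
      one_mem' := fun ψ _ => Covering.conjIrr_one N ψ
      mul_mem' := fun {x y} hx hy ψ hψ => by rw [← Covering.conjIrr_conjIrr, hx ψ hψ, hy ψ hψ]
      inv_mem' := fun {x} hx ψ hψ => by
        conv_lhs => rw [← hx ψ hψ]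
        rw [Covering.conjIrr_conjIrr, mul_inv_cancel, Covering.conjIrr_one] }
  have : F.Normal := ⟨fun x hx y ψ hψ => by
    rw [← Covering.conjIrr_conjIrr, ← Covering.conjIrr_conjIrr,
      hx _ ((hst.mem_iff y).1 (Subgroup.mem_top y) ψ hψ), Covering.conjIrr_conjIrr, mul_inv_cancel,
      Covering.conjIrr_one]⟩
  have h1 : g ∈ F := hgen F (fun d hd ψ hψ => fixes_iff.1 (h d hd ψ hψ)) ▸ Subgroup.mem_top g
  exact fun ψ hψ => fixes_iff.2 (h1 ψ hψ)

/-- the Brauer map at `D` does not kill the idempotent of the covered block -/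
theorem exists_coeff (hM : IsPModular p M) (hB : IsPBlock M B) (hD : IsDefectGroup p M B D) {N : Subgroup G}
    [hN : N.Normal] (hc : IsPBlock M (cov B N)) (hst : IsStab (cov B N) ⊤) :
    ∃ x : N, ¬ MemLocalIdeal M (blockCoeff (cov B N) x) ∧ D ≤ Cu (x : G) := by
  classical
  have := Local.isPrime_of_isPModular hM
  letI := Fintype.ofFinite G
  letI := Fintype.ofFinite N
  obtain ⟨χ, hχ⟩ := Basic.isPBlock_nonempty hB
  set f := extendByZero N (blockCoeff (cov B N)) with hf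
  have h1 : IsClassFunction G f := by
    intro g h
    by_cases hg : g ∈ N
    · have h2 := hst.blockCoeff_conj (Subgroup.mem_top h) ⟨g, hg⟩
      rw [← ClassSum.extendByZero_coe' N (blockCoeff (cov B N)),
        ← ClassSum.extendByZero_coe' N (blockCoeff (cov B N)) ⟨g, hg⟩, MulAut.conjNormal_apply] at h2
      exact h2
    · rw [hf, ClassSum.extendByZero_of_notMem' N _ hg, ClassSum.extendByZero_of_notMem' N _ fun h2 => hg (by
        simpa [mul_assoc] using hN.conj_mem _ h2 h⁻¹)]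
  have hR : ∀ g, MemLocalRing M (f g) := by
    intro g
    by_cases hg : g ∈ N
    · rw [hf, ClassSum.extendByZero_coe' N _ ⟨g, hg⟩]
      exact S0913.result p M hM _ hc _
    · rw [hf, ClassSum.extendByZero_of_notMem' N _ hg]
      exact Local.memLocalRing_zero
  have h2 : ∑ g : G, f g * ((χ : G → ℂ) g / (χ : G → ℂ) 1) = 1 := by
    have h3 := (H591.Reynolds.sum_blockCoeff_resTo (le_top : N ≤ ⊤) (cov B N)
      (isIrr_comp (⊤ : Subgroup G).subtype (fun g => ⟨⟨g, trivial⟩, rfl⟩) χ.2)).1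
      fun θ hθ => ⟨χ, hχ, (ov_subtype_iff N _ _).2 hθ⟩
    have h4 : ∑ n : N, blockCoeff (cov B N) n * (χ : G → ℂ) n = (χ : G → ℂ) 1 := h3
    have h6 : ∑ g : G, f g * (χ : G → ℂ) g = ∑ n : N, blockCoeff (cov B N) n * (χ : G → ℂ) n := by
      rw [← Finset.sum_subset (Finset.subset_univ (Finset.univ.map ⟨_, N.subtype_injective⟩)) fun g _ hg => by
        rw [hf, ClassSum.extendByZero_of_notMem' N _ fun h => hg (Finset.mem_map.2 ⟨⟨g, h⟩, Finset.mem_univ _, rfl⟩),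
          zero_mul], Finset.sum_map]
      exact Finset.sum_congr rfl fun n _ => congrArg (· * _) (ClassSum.extendByZero_coe' N _ n)
    simp only [← mul_div_assoc]
    rw [← Finset.sum_div, h6, h4, div_self (isIrr_apply_one_ne_zero χ.2)]
  obtain ⟨T, hT⟩ := ClassSum.exists_reps (G := G)
  rw [hT f _ h1] at h2
  obtain ⟨t, -, ht⟩ := Local.exists_not_memLocalIdeal_of_sum (h2 ▸ Local.not_memLocalIdeal_one (M := M))
  rw [ClassSum.finsum_conj_div (isIrr_isClassFunction χ.2)] at ht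
  obtain ⟨y, h3, h4⟩ := KM.Mu.exists_cent hM hB hD hχ fun h => ht (Local.memLocalIdeal_mul_left (hR t) h)
  have h5 : ¬ MemLocalIdeal M (f y) := by
    obtain ⟨c, rfl⟩ := isConj_iff.1 h3
    rw [h1 t c]
    exact fun h => ht (Local.memLocalIdeal_mul_right h
      (Local.memLocalRing_of_isIntegral (Central.isIntegral_centralChar χ.2 t)))
  have h6 : y ∈ N := by
    by_contra h
    rw [hf, ClassSum.extendByZero_of_notMem' N _ h] at h5
    exact h5 Local.memLocalIdeal_zero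
  refine ⟨⟨y, h6⟩, ?_, h4⟩
  rwa [← ClassSum.extendByZero_coe' N (blockCoeff (cov B N))]

/-- **Gallagher** over an abelian quotient -/
theorem res_eq (N : Subgroup G) [N.Normal] (hc : ∀ x y : G, x * y * x⁻¹ * y⁻¹ ∈ N) {η ξ : G → ℂ}
    (hη : IsIrrCharacter G η) (hξ : IsIrrCharacter G ξ) {θ : IrrCharacter N} (h1 : ∀ n : N, η n = (θ : N → ℂ) n)
    (h2 : Ov N.subtype ξ (θ : N → ℂ)) (n : N) : ξ n = (θ : N → ℂ) n := by
  letI := Fintype.ofFinite G
  letI := Fintype.ofFinite N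
  obtain ⟨l, h3, h4, rfl⟩ := CharactersDeep.CosetAverage.exists_irr_mul N η hη (by rw [funext h1]; exact θ.2) ξ hξ
    (by rw [funext h1]; exact (ov_subtype_iff N _ _).1 h2)
  have h5 : ∀ k ∈ N, l k = l 1 := fun k hk => by rw [← h4 ⟨k, hk⟩ 1, mul_one]
  rw [Pi.mul_apply, h5 n n.2, CharactersDeep.FeitLinear.apply_one_eq_one N hc h3 h5, mul_one, h1]

theorem fix_of_orb {P I : Subgroup G} (hI : ¬ p ∣ (Ce P).relIndex I) (hIP : ∀ t ∈ I, ∀ u ∈ P, t * u * t⁻¹ ∈ P)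
    {α : MulAut G} {k : ℕ} (hα : α ^ p ^ k = 1)
    (hQ : ∀ t ∈ I, ∀ u ∈ P, α (t * u * t⁻¹ * u⁻¹) = t * u * t⁻¹ * u⁻¹)
    (horb : ∀ u ∈ P, ∃ t ∈ I, α u = t * u * t⁻¹) {u : G} (hu : u ∈ P) : α u = u := by
  classical
  letI : MulAction I G := MulAction.compHom G (MulAut.conj.comp I.subtype)
  have hs : ∀ (t : I) (x : G), t • x = t * x * (t : G)⁻¹ := fun _ _ => rfl
  have h1 : ∀ x ∈ MulAction.orbit I u, α x ∈ MulAction.orbit I u := by
    rintro _ ⟨t, rfl⟩
    obtain ⟨s, hs', h⟩ := horb _ (hIP t t.2 u hu)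
    exact ⟨⟨s, hs'⟩ * t, by dsimp only; rw [mul_smul]; exact h.symm⟩
  have h2 : ∀ n : ℕ, ∀ x ∈ MulAction.orbit I u, (α ^ n) x ∈ MulAction.orbit I u := by
    intro n
    induction n with
    | zero => exact fun x hx => hx
    | succ n ih => exact fun x hx => by rw [pow_succ]; exact ih _ (h1 x hx)
  have h3 : ∀ x, α.toEquiv x ∈ MulAction.orbit I u ↔ x ∈ MulAction.orbit I u := fun x => ⟨fun h => by
    have h4 := h2 (p ^ k - 1) _ h
    have h5 : α ^ (p ^ k - 1) * α = 1 := by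
      rw [← pow_succ, Nat.sub_add_cancel (Nat.one_le_pow _ _ (Fact.out : p.Prime).pos), hα]
    have h6 : (α ^ (p ^ k - 1)) (α x) = x := by rw [← MulAut.mul_apply, h5, MulAut.one_apply]
    rwa [← h6], h1 x⟩
  letI := Fintype.ofFinite (MulAction.orbit I u)
  obtain ⟨⟨_, t, rfl⟩, h4⟩ := Equiv.Perm.exists_fixed_point_of_prime (p := p) (n := k)
    (σ := Equiv.Perm.subtypePerm α.toEquiv h3) (fun h => hI (by
      rw [← Nat.card_eq_fintype_card, Nat.card_coe_set_eq, ← MulAction.index_stabilizer] at h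
      exact h.trans (Subgroup.index_dvd_of_le fun t ht => MulAction.mem_stabilizer_iff.2 (by
        rw [hs, mul_inv_eq_iff_eq_mul]
        exact (Subgroup.mem_centralizer_iff.1 ht u hu).symm)))) (by
      rw [Equiv.Perm.subtypePerm_pow]
      ext x
      have h5 : α.toEquiv ^ p ^ k = 1 := by
        change MulAut.toPerm G α ^ p ^ k = 1
        rw [← map_pow, hα, map_one]
      change (α.toEquiv ^ p ^ k) x = x
      rw [h5]
      rfl)
  have h5 : α (t * u * (t : G)⁻¹) = t * u * (t : G)⁻¹ := congrArg Subtype.val h4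
  have h6 := hQ t t.2 u hu
  rw [map_mul, h5, mul_right_inj, map_inv, inv_inj] at h6
  exact h6

/-- the case `N D < G` -/
theorem ab_of_lt (H : Min p M B D) {N : Subgroup G} [hN : N.Normal]
    (hfix : ∀ g, ∀ ψ ∈ cov B N, Fixes N g (ψ : N → ℂ)) (hc : ∀ x ∈ N ⊔ D, ∀ y ∈ N ⊔ D, x * y * x⁻¹ * y⁻¹ ∈ N)
    (hext : ∀ θ ∈ cov B N, ExtTo N (N ⊔ D) (θ : N → ℂ)) (hR : N ⊔ D ≠ ⊤) : Ab D := by
  have hM := H.hM
  have := Local.isPrime_of_isPModular hM
  have hDp := H592.Defect.isPGroup_of_isDefectGroup H.hD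
  set R := N ⊔ D with hR'
  letI := Fintype.ofFinite R
  letI := Fintype.ofFinite (N.subgroupOf R)
  let e : N.subgroupOf R ≃* N := Subgroup.subgroupOfEquivOfLe le_sup_left
  have hi : ∃ k, (N.subgroupOf R).index = p ^ k := by
    obtain ⟨k, hk⟩ := IsPGroup.iff_card.1 hDp
    have h1 : (N.subgroupOf R).index ∣ p ^ k := by
      change N.relIndex (N ⊔ D) ∣ _
      rw [Subgroup.relIndex_sup_left, ← hk]
      exact Subgroup.relIndex_dvd_card N D
    obtain ⟨j, -, hj⟩ := (Nat.dvd_prime_pow Fact.out).1 h1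
    exact ⟨j, hj⟩
  obtain ⟨B', hB', h1, h2⟩ := H646.UCov.exists_block_of_stable (N.subgroupOf R) hM
    (H646.UCov.ucov_of_index hM _ hi) (isPBlock_trSet e (H.blk N)) fun x =>
      ⟨by rw [Subgroup.normalizer_eq_top]; trivial, fun χ hχ => ⟨χ, hχ, fun k k' h => by
        rw [← tr_tr_symm e χ]
        exact hfix x _ (mem_trSet.1 hχ) (e k) (e k') (congrArg Subtype.val h)⟩⟩
  have key : ∀ ξ ∈ B', ∃ θ ∈ cov B N, nu p ξ = nu p θ := by
    intro ξ hξ
    obtain ⟨θ', h3⟩ := exists_ov (N.subgroupOf R).subtype ξ.2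
    have h4 : θ' ∈ trSet e (cov B N) := h1 ▸ ⟨ξ, hξ, (ov_subtype_iff _ _ _).1 h3⟩
    obtain ⟨η, h5, h6⟩ := hext _ (mem_trSet.1 h4)
    refine ⟨_, mem_trSet.1 h4, ?_⟩
    have h7 := res_eq (N.subgroupOf R) (fun x y => hc x x.2 y y.2) h5 ξ.2 (θ := θ') (fun n => by
      rw [← tr_tr_symm e θ']
      exact h6 (e n)) h3 1
    unfold nu
    rw [charDegree_tr]
    unfold charDegree
    rw [← h7]
    rfl
  have hE : EQ p B' := fun ξ hξ ξ' hξ' => by
    obtain ⟨θ, hθ, h3⟩ := key ξ hξ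
    obtain ⟨θ', hθ', h4⟩ := key ξ' hξ'
    rw [h3, h4]
    exact H.hzc N θ hθ θ' hθ'
  obtain ⟨D', hD'⟩ := H592.Defect.exists_defectGroup p hM hB'
  have ha := H.ih R (lt_sub R hR) B' D' hB' hD' hE
  obtain ⟨x, h3, h4⟩ := exists_coeff hM H.hB H.hD (H.blk N) (H.stab N)
  obtain ⟨y, hy⟩ := (S0959.result p M hM B' hB' D' hD' (D.subgroupOf R) (hDp.comap_of_injective _
    R.subtype_injective)).1 ⟨e.symm x, S0913.result p M hM _ hB' _, by
      rw [h2, H646.UCov.subgroupBlockCoeff_of_mem (e.symm x).2, blockCoeff_trSet, Subtype.coe_eta, e.apply_symm_apply]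
      exact h3, _, IsConj.refl _, Subgroup.mem_centralizer_iff.2 fun d hd =>
        Subtype.ext (Subgroup.mem_centralizer_singleton_iff.1 (h4 hd))⟩
  have h5 : Ab (D.subgroupOf R) := Ab.of_map (MulAut.conj y).injective (ha.mono hy)
  exact fun a ha' b hb' => congrArg Subtype.val (h5 ⟨a, Subgroup.mem_sup_right ha'⟩ ha' ⟨b, Subgroup.mem_sup_right hb'⟩ hb')

/-- the case `N D = G` -/
theorem ab_of_top (RT : BoxRT p M) (ORB : BoxORB p M) (H : Min p M B D) {N : Subgroup G} [hN : N.Normal]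
    (hNt : N ≠ ⊤) (hcen : D ≤ Ce (D ⊓ N)) (hc : ∀ x y : G, x * y * x⁻¹ * y⁻¹ ∈ N)
    (hext : ∀ θ ∈ cov B N, ExtTo N ⊤ (θ : N → ℂ)) : Ab D := by
  have hM := H.hM
  have := Local.isPrime_of_isPModular hM
  have hDp := H592.Defect.isPGroup_of_isDefectGroup H.hD
  obtain ⟨L, hL, hNL⟩ := (eq_top_or_exists_le_coatom N).resolve_left hNt
  have hn : ∀ K : Subgroup G, N ≤ K → K.Normal := fun K hK => ⟨fun x hx g => by
    have h1 := K.mul_mem (hK (hc g x)) hx
    rwa [inv_mul_cancel_right] at h1⟩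
  have := hn L hNL
  -- the members of the block of `L` are invariant
  have hfix : ∀ f ∈ Fn (cov B L), ∀ α ∈ (MulAut.conjNormal : G →* MulAut L).range, f ∘ α = f := by
    rintro _ ⟨ψ, ⟨χ, hχ, h1⟩, rfl⟩ _ ⟨g, rfl⟩
    letI := Fintype.ofFinite L
    obtain ⟨θ, h2⟩ := exists_ov N.subtype χ.2
    obtain ⟨η, h3, h4⟩ := hext θ ⟨χ, hχ, h2⟩
    have h5 := res_eq N hc (isIrr_comp (Subgroup.topEquiv (G := G)).symm.toMonoidHom
      (Subgroup.topEquiv (G := G)).symm.surjective h3) χ.2 h4 h2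
    have h6 : IsIrrCharacter L fun x : L => (χ : G → ℂ) x := by
      obtain ⟨n, ρ, hρ⟩ := isCharacter_comp' L.subtype (isIrr_isCharacter χ.2)
      refine ⟨n, ρ, CharactersDeep.IrrEquiv.isIrreducible_of_comp ρ (Subgroup.inclusion hNL)
        (isIrreducible_of_isIrrCharacter (ρ.comp (Subgroup.inclusion hNL)) ?_), hρ⟩
      convert θ.2 using 1
      funext n
      exact (congrFun hρ _).trans (h5 n)
    have h7 : (fun x : L => (χ : G → ℂ) x) = ψ := by
      by_contra h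
      exact (ov_subtype_iff L _ _).1 h1 (classInner_irr_ne h6 ψ.2 h)
    rw [← h7]
    funext x
    exact (congrArg (χ : G → ℂ) (MulAut.conjNormal_apply g x)).trans (Basic.irr_conj χ.2 _ _)
  obtain ⟨θ, hθ, hDθ⟩ := (RT hM G L B D H.hB H.hD (H.blk L) (H.stab L) (H.ab L hL.1)).1
  obtain ⟨χ, hχ⟩ := Basic.isPBlock_nonempty (H.blk L)
  have horb := ORB L _ _ _ hθ.can (MulAut.conjNormal : G →* MulAut L).range (Inn L) le_rfl (by
      rintro _ ⟨l, rfl⟩
      exact ⟨l, MulAut.conjNormal_val⟩) (fun α hα f => ⟨fun h => by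
        have h1 := hfix _ h _ (inv_mem hα)
        have h2 : (f ∘ α) ∘ ⇑α⁻¹ = f := funext fun x => by simp
        rwa [← h2, h1], fun h => by rwa [hfix f h α hα]⟩) ⟨χ, ⟨χ, hχ, rfl⟩, by
      rw [Subgroup.relIndex_eq_one.2 fun α hα => show α ∈ FixF (χ : L → ℂ) from
        ⟨fun _ => Iff.rfl, congrFun (hfix _ ⟨χ, hχ, rfl⟩ α hα)⟩]
      exact (Fact.out : p.Prime).not_dvd_one⟩ fun f hf α hα => ⟨1, one_mem _, hfix f hf α hα⟩
  have hP : ∀ d ∈ D, ∀ u ∈ D ⊓ L, d * u = u * d := by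
    intro d hd u hu
    obtain ⟨k, hk⟩ := hDp ⟨d, hd⟩
    have h1 : d ^ p ^ k = 1 := congrArg Subtype.val hk
    have h2 := fix_of_orb (boxCAN1 L p M _ _ _ hθ.can).idx (fun t ht v hv => (ht.1 v).2 hv)
      (α := MulAut.conjNormal d) (k := k) (by rw [← map_pow, h1, map_one]) (fun t ht v hv => Subtype.ext (by
        rw [MulAut.conjNormal_apply, mul_inv_eq_iff_eq_mul]
        exact (Subgroup.mem_centralizer_iff.1 (hcen hd) _
          ⟨(mul_mem ((ht.1 v).2 hv) (inv_mem hv)).1, hc t v⟩).symm)) (fun v hv => by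
        obtain ⟨_, ⟨⟨t, rfl⟩, ht⟩, h⟩ := horb (MulAut.conjNormal d) ⟨⟨d, rfl⟩, fun x => (hDθ hd).1 x,
          fun x => (hDθ hd).2 x⟩ v hv
        exact ⟨t, ht, h⟩) (u := ⟨u, hu.2⟩) hu
    have h3 := congrArg Subtype.val h2
    rw [MulAut.conjNormal_apply] at h3
    exact mul_inv_eq_iff_eq_mul.1 h3
  obtain ⟨d, hd, hdL⟩ := Set.not_subset.1 fun h : D ≤ L => hL.1 (H.gen L h)
  have h1 : L ⊔ Subgroup.zpowers d = ⊤ := hL.2 _ (left_lt_sup.2 fun h => hdL (h (Subgroup.mem_zpowers d)))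
  have h2 : ∀ x ∈ D, ∃ l ∈ D ⊓ L, ∃ k : ℤ, l * d ^ k = x := fun x hx => by
    obtain ⟨l, hl, _, ⟨k, rfl⟩, rfl⟩ := Subgroup.mem_sup_of_normal_left.1 (h1 ▸ Subgroup.mem_top x)
    exact ⟨l, ⟨(D.mul_mem_cancel_right (D.zpow_mem hd k)).1 hx, hl⟩, k, rfl⟩
  intro x hx y hy
  obtain ⟨l, hl, k, rfl⟩ := h2 x hx
  obtain ⟨l', hl', k', h3⟩ := h2 y hy
  have h4 : Commute l y := (hP y hy l hl).symm
  have h5 : Commute (d ^ k) y := by
    rw [← h3]
    exact (show Commute (d ^ k) l' from hP _ (D.zpow_mem hd k) l' hl').mul_right (Commute.zpow_zpow_self d k k')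
  exact h4.mul_left h5

theorem fin_core (RT : BoxRT p M) (REG : BoxREG p M) (DQ : BoxDQ p M) (ORB : BoxORB p M) (H : Min p M B D)
    {N : Subgroup G} [hN : N.Normal] (hNt : N ≠ ⊤) (hZ : Subgroup.center G < N) : ¬ D ≤ Ce (D ⊓ N) := by
  intro hcen
  have hM := H.hM
  have := Local.isPrime_of_isPModular hM
  have hDp := H592.Defect.isPGroup_of_isDefectGroup H.hD
  obtain ⟨θ, hθ, hDθ⟩ := (RT hM G N B D H.hB H.hD (H.blk N) (H.stab N) (H.ab N hNt)).1
  have hfix := all_fixed (H.stab N) H.gen fun d hd =>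
    (REG hM G N B D H.hB H.hD (H.blk N) (H.stab N) _ θ hθ).2.2 d (Subgroup.mem_sup_right ⟨hDθ hd, hcen hd⟩) (by
      obtain ⟨k, hk⟩ := hDp ⟨d, hd⟩
      have h1 : d ^ p ^ k = 1 := congrArg Subtype.val hk
      exact ⟨k, h1 ▸ N.one_mem⟩)
  obtain ⟨ψ, hψ⟩ := Basic.isPBlock_nonempty (H.blk N)
  have hDD := DQ hM G N B D H.hB H.hD (fun X _ _ h => H.ih X (Or.inl (h.trans_lt (Subgroup.index_strictAnti hZ))))
    ψ hψ (fun g => hfix g ψ hψ) fun χ hχ _ => df_eq hM H.hB H.hD H.hz hχ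
  have hc : ∀ x ∈ N ⊔ D, ∀ y ∈ N ⊔ D, x * y * x⁻¹ * y⁻¹ ∈ N := by
    intro x hx y hy
    obtain ⟨n, hn, a, ha, rfl⟩ := Subgroup.mem_sup_of_normal_left.1 hx
    obtain ⟨m, hm, b, hb, rfl⟩ := Subgroup.mem_sup_of_normal_left.1 hy
    have h1 := (QuotientGroup.eq_one_iff _).2 (hDD (Subgroup.commutator_mem_commutator ha hb))
    rw [← QuotientGroup.eq_one_iff, ← h1, commutatorElement_def]
    simp only [QuotientGroup.mk_mul, QuotientGroup.mk_inv, (QuotientGroup.eq_one_iff n).2 hn,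
      (QuotientGroup.eq_one_iff m).2 hm, one_mul]
  have hext : ∀ θ ∈ cov B N, ExtTo N (N ⊔ D) (θ : N → ℂ) := by
    intro φ hφ
    obtain ⟨g, -, ξ, h1, h2⟩ := H.ext N φ hφ
    have h3 : (N ⊔ D).map (MulAut.conj g).toMonoidHom = N ⊔ cj g D := by
      rw [Subgroup.map_sup]
      congr 1
      ext x
      constructor
      · rintro ⟨n, hn, rfl⟩
        exact hN.conj_mem n hn g
      · intro hx
        exact ⟨g⁻¹ * x * g, by simpa using hN.conj_mem x hx g⁻¹, by simp [mul_assoc]⟩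
    rw [← h3] at h1
    have h4 := isIrr_comp ((MulAut.conj g).subgroupMap (N ⊔ D)).toMonoidHom
      ((MulAut.conj g).subgroupMap (N ⊔ D)).surjective h1
    refine ⟨fun x => ξ (g * x * g⁻¹), h4, fun n => ?_⟩
    exact (h2 ⟨_, hN.conj_mem n n.2 g⟩).trans (hfix g φ hφ n _ rfl)
  by_cases hR : N ⊔ D = ⊤
  · rw [hR] at hc hext
    exact H.na (ab_of_top RT ORB H hNt hcen (fun x y => hc x trivial y trivial) hext)
  · exact H.na (ab_of_lt H hfix hc hext hR)

end Cfsg.Agent.BH.Perm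

namespace Cfsg.Agent.BH

/-- **[FIN]** -/
theorem boxFIN {p : ℕ} [Fact p.Prime] {M : Ideal AlgInt} (RT : BoxRT p M) (REG : BoxREG p M) (DQ : BoxDQ p M)
    (ORB : BoxORB p M) : BoxFIN p M := by
  intro G _ _ B D H N _ hNt hZ hcen
  have h1 := Perm.inf_sup_center (H592.Defect.isPGroup_of_isDefectGroup H.hD) H.zp N
  refine Perm.fin_core RT REG DQ ORB H (N := N ⊔ Subgroup.center G) (fun h => hNt (H.gen N ?_))
    (right_lt_sup.2 hZ) (h1 ▸ hcen)
  rw [h, inf_top_eq] at h1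
  exact h1.le.trans inf_le_right

end Cfsg.Agent.BH
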