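import Cfsg.Agent.BH.Perm.A
import Cfsg.Agent.KM.BK.C
import Cfsg.Agent.TO.Can

/-!
# BH, `boxPERM`: the components of a minimal counterexample are normal (helper74)
-/

set_option autoImplicit false
set_option linter.style.haveILetI false
set_option linter.unusedSectionVars false

open Cfsg
open scoped Pointwise

namespace Cfsg.Agent.BH.Perm

open Cfsg.Agent Cfsg.Agent.Characters.Core Cfsg.Agent.Blocks Cfsg.Agent.TID.Red Cfsg.Agent.KM.BK Cfsg.Agent.TO
open Cfsg.Agent.H591.Reynolds (IsStab)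
open Cfsg.Agent.SignalizersComponents.Components

variable {p : ℕ} [Fact p.Prime] {M : Ideal AlgInt} {G : Type} [Group G] [Finite G]
  {B : Set (IrrCharacter G)} {D : Subgroup G}

/-- a root for a normal subgroup which meets the defect group in an abelian group -/
theorem exists_root (hM : IsPModular p M) (hB : IsPBlock M B) (hD : IsDefectGroup p M B D) {N : Subgroup G}
    [N.Normal] (hc : IsPBlock M (cov B N)) (ha : Ab (D ⊓ N)) : ∃ θ : G → ℂ, Root p M N (cov B N) (D ⊓ N) θ := by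
  obtain ⟨θ, hθ⟩ := boxCAN0 N p M _ _ hM hc (defect_cov hM hB hD hc)
    (ha.comap N.subtype_injective).le_centralizer
  refine ⟨extendByZero N θ, inf_le_right, fun g hg => ClassSum.extendByZero_of_notMem' N θ hg, ?_⟩
  rwa [funext (ClassSum.extendByZero_coe' N θ)]

omit [Finite G] in
theorem index_cj (N : Subgroup G) [hN : N.Normal] (D : Subgroup G) (g : G) :
    (N ⊔ cj g D).index = (N ⊔ D).index := by
  have h1 : cj g N = N := by
    ext x
    constructor
    · rintro ⟨n, hn, rfl⟩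
      exact hN.conj_mem n hn g
    · intro hx
      exact ⟨g⁻¹ * x * g, by simpa using hN.conj_mem x hx g⁻¹, by simp [mul_assoc]⟩
  rw [← Subgroup.index_map_of_bijective (f := (MulAut.conj g).toMonoidHom) (MulAut.conj g).bijective (N ⊔ D),
    Subgroup.map_sup]
  congr 2
  exact h1.symm

omit [Finite G] in
/-- the inertial fixed points, inside `K` -/
theorem zr_sub {K Q : Subgroup G} {θ : G → ℂ} (h : Zr K Q θ = ⊥) :
    Q.subgroupOf K ⊓ Ce (In (Q.subgroupOf K) fun k : K => θ k) = ⊥ := by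
  rw [eq_bot_iff]
  intro x hx
  have h1 : (x : G) ∈ Zr K Q θ := ⟨hx.1, Subgroup.mem_centralizer_iff.2 fun t ht => congrArg Subtype.val
    (Subgroup.mem_centralizer_iff.1 hx.2 ⟨t, ht.2⟩ ⟨fun y => ht.1.1 y, fun y => ht.1.2 y⟩)⟩
  rw [h, Subgroup.mem_bot] at h1
  exact Subgroup.mem_bot.2 (Subtype.ext h1)

/-- three classes of members of the block of a component which is not normal are impossible -/
theorem no_three (REG : BoxREG p M) (H : Min p M B D) (hO : pCore p G = ⊥)
    (hne : ∀ K : Subgroup G, IsComponent K → K ≠ ⊤ → D ⊓ K ≠ ⊥) {K : Subgroup G} (hK : IsComponent K)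
    {d : G} (hd : d ∈ D) (hdK : d ∉ Subgroup.normalizer (K : Set G)) (hb : IsPBlock M (cov B K))
    (hz : ¬ p ∣ Nat.card (Subgroup.center K)) : ¬ Three (cov B K) := by
  classical
  rintro ⟨_, ⟨χ₁, m1, rfl⟩, _, ⟨χ₂, m2, rfl⟩, _, ⟨χ₃, m3, rfl⟩, h3⟩
  have hM := H.hM
  have := Local.isPrime_of_isPModular hM
  have hDp := H592.Defect.isPGroup_of_isDefectGroup H.hD
  have := layer_normal G
  have := G0_normal (G := G)
  have hE : layer G ≠ ⊤ := fun h => hdK (layer_le_normalizer_component hK (h ▸ Subgroup.mem_top d))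
  -- the index of `G0 D` is prime to `p`
  have hidx : ¬ p ∣ (G0 G ⊔ D).index := by
    obtain ⟨θ, hθ⟩ := exists_root hM H.hB H.hD (H.blk (layer G)) (H.ab _ hE)
    refine (REG hM G (layer G) B D H.hB H.hD (H.blk _) (H.stab _) _ θ hθ).2.1 (G0 G) (sup_le ?_ ?_) (H.blk _)
      (H.stab _)
    · exact fun x hx => mem_G0.2 fun L hL => layer_le_normalizer_component hL hx
    · refine fun x hx => mem_G0.2 fun L hL => ?_
      obtain ⟨⟨y, hy⟩, hy1⟩ := Subgroup.ne_bot_iff_exists_ne_one.1 (hne L hL fun h =>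
        hE (top_le_iff.1 (h ▸ component_le_layer hL)))
      exact centralizer_le_normalizer_comp hO hL hy.2 (fun h5 => hy1 (Subtype.ext h5))
        (hDp.to_le (Subgroup.zpowers_le.2 hy.1))
        (Subgroup.mem_centralizer_iff.1 hx.2 y ⟨hy.1, component_le_layer hL hy.2⟩).symm
  set T := Subgroup.normalizer (K : Set G) with hT
  obtain ⟨Δ₁, Δ₂, hdis, hdvd⟩ := label (Ω := G ⧸ T) hDp H.gen hd (ω := QuotientGroup.mk 1) fun h => by
    have h1 : (QuotientGroup.mk (d * 1) : G ⧸ T) = QuotientGroup.mk 1 := h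
    have h2 := QuotientGroup.eq.1 h1
    rw [mul_one, mul_one] at h2
    exact hdK (T.inv_mem_iff.1 h2)
  -- the embeddings of `K`
  let ι : G ⧸ T → K →* layer G := fun ω =>
    ((MulAut.conj ω.out).toMonoidHom.comp K.subtype).codRestrict _ fun k =>
      (layer_normal G).conj_mem _ (component_le_layer hK k.2) _
  have hι : ∀ ω (k : K), (ι ω k : G) = ω.out * k * ω.out⁻¹ := fun _ _ => rfl
  have hcen : ∀ ω (x : layer G), (x : G) ∈ Ce (cj ω.out K) → x ∈ Ce (ι ω).range := fun ω x hx =>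
    Subgroup.mem_centralizer_iff.2 (by
      rintro _ ⟨k, rfl⟩
      exact Subtype.ext (Subgroup.mem_centralizer_iff.1 hx _ ⟨k, k.2, rfl⟩))
  let c : G ⧸ T → IrrCharacter K := fun ω => if ω ∈ Δ₁ then χ₁ else if ω ∈ Δ₂ then χ₂ else χ₃
  obtain ⟨θ, hθ, hθc⟩ := family hM (ι := ι) (fun ω a b h => by
      have h1 := congrArg Subtype.val h
      rw [hι, hι, mul_left_inj, mul_right_inj] at h1
      exact Subtype.ext h1) (fun ω x => by
      have h1 : layer G ≤ cj ω.out K ⊔ Ce (cj ω.out K) := layer_le_iff.2 fun L hL => by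
        by_cases h : L = cj ω.out K
        · exact h ▸ le_sup_left
        · exact (component_le_centralizer_of_ne hL (isComponent_conj _ hK) h).trans le_sup_right
      obtain ⟨_, ⟨k, hk, rfl⟩, y, hy, h2⟩ := exists_mul_of_le_centralizer le_rfl (h1 x.2)
      refine ⟨⟨k, hk⟩, (ι ω ⟨k, hk⟩)⁻¹ * x, hcen ω _ ?_, mul_inv_cancel_left _ _⟩
      have h3 : (((ι ω ⟨k, hk⟩)⁻¹ * x : layer G) : G) = y := by
        rw [Subgroup.coe_mul, Subgroup.coe_inv, ← h2]
        exact inv_mul_cancel_left _ _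
      rwa [h3]) (fun ω ω' h a => hcen ω _ (component_le_centralizer_of_ne (isComponent_conj ω'.out hK)
        (isComponent_conj ω.out hK) (fun h1 => h (by
          rw [← ω.out_eq', ← ω'.out_eq']
          refine QuotientGroup.eq.2 (Subgroup.mem_normalizer_fintype fun k hk => ?_)
          have h2 : (MulAut.conj ω'.out).toMonoidHom k ∈ K.map (MulAut.conj ω'.out).toMonoidHom :=
            Subgroup.mem_map_of_mem _ hk
          rw [h1] at h2
          obtain ⟨l, hl, h4⟩ := h2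
          have h5 : ω.out * l * ω.out⁻¹ = ω'.out * k * ω'.out⁻¹ := h4
          have h6 : ω.out⁻¹ * ω'.out * k * (ω.out⁻¹ * ω'.out)⁻¹ = l := by
            calc ω.out⁻¹ * ω'.out * k * (ω.out⁻¹ * ω'.out)⁻¹ = ω.out⁻¹ * (ω'.out * k * ω'.out⁻¹) * ω.out := by group
              _ = l := by rw [← h5]; group
          rw [h6]
          exact hl)) ⟨a, a.2, rfl⟩)) hz (H.blk (layer G)) hb (by
      rintro θ ⟨χ, hχ, h1⟩ ω φ h2
      refine ⟨χ, hχ, Ov.congr (ι := (layer G).subtype.comp (ι ω)) (fun a => ?_)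
        (Ov.trans (fun _ => rfl) (isIrr_isCharacter χ.2) θ.2 φ.2 h1 (h2.ov (isIrr_apply_one_ne_zero θ.2) φ.2))⟩
      exact (Basic.irr_conj χ.2 _ _).symm) c (fun ω => by
      dsimp only [c]
      split_ifs <;> assumption)
  obtain ⟨g, hg, -⟩ := H.ext (layer G) θ hθ
  have key : ∀ x ∈ cj g D, ∀ ω : G ⧸ T, c (x • ω) = c ω := by
    intro x hx ω
    have h1 : (x • ω).out⁻¹ * (x * ω.out) ∈ T := by
      refine QuotientGroup.eq.1 ?_
      rw [QuotientGroup.out_eq']
      conv_lhs => rw [← ω.out_eq']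
      rfl
    have h2 : (c (x • ω) : K → ℂ) ∘ cjOn K h1 = c ω := by
      refine eq_of_prop (isIrr_comp (cjOn K h1).toMonoidHom (cjOn K h1).surjective (c _).2) (c _).2 fun k => ?_
      have h4 := hθc (x • ω) (cjOn K h1 k)
      have h5 := hθc ω k
      rw [hg x hx (ι ω k) _ (by rw [hι, hι, cjOn_coe]; group)] at h4
      simp only [Function.comp, map_one]
      apply mul_left_cancel₀ (isIrr_apply_one_ne_zero θ.2)
      linear_combination (c (x • ω) : K → ℂ) 1 * h5 - (c ω : K → ℂ) 1 * h4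
    have h4 : (c ω : K → ℂ) ∘ (cjOn K h1).symm = c (x • ω) := by
      rw [← h2]
      funext k
      simp
    have h5 := h3 (cjOn K h1)
    have h6 := h3 (cjOn K h1).symm
    revert h2 h4
    dsimp only [c]
    split_ifs <;> intro h2 h4 <;>
      first | rfl | exact absurd h2 h5.1 | exact absurd h2 h5.2.1 | exact absurd h2 h5.2.2 |
        exact absurd h4 h6.1 | exact absurd h4 h6.2.1 | exact absurd h4 h6.2.2
  have n12 : χ₁ ≠ χ₂ := fun h => (h3 1).1 (by rw [h]; rfl)
  have n13 : χ₁ ≠ χ₃ := fun h => (h3 1).2.1 (by rw [h]; rfl)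
  have n23 : χ₂ ≠ χ₃ := fun h => (h3 1).2.2 (by rw [h]; rfl)
  have c1 : ∀ ω, ω ∈ Δ₁ ↔ c ω = χ₁ := fun ω => by
    dsimp only [c]
    split_ifs with h4 h5
    · exact iff_of_true h4 rfl
    · exact iff_of_false h4 n12.symm
    · exact iff_of_false h4 n13.symm
  have c2 : ∀ ω, ω ∈ Δ₂ ↔ c ω = χ₂ := fun ω => by
    dsimp only [c]
    split_ifs with h4 h5
    · exact iff_of_false (Set.disjoint_left.1 hdis h4) n12
    · exact iff_of_true h5 rfl
    · exact iff_of_false h5 n23.symm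
  have hS : ∀ x : G, (∀ ω : G ⧸ T, c (x • ω) = c ω) →
      x ∈ MulAction.stabilizer G Δ₁ ⊓ MulAction.stabilizer G Δ₂ := fun x h =>
    ⟨MulAction.mem_stabilizer_set.2 fun ω => by rw [c1, c1, h], MulAction.mem_stabilizer_set.2 fun ω => by
      rw [c2, c2, h]⟩
  apply hidx
  rw [← index_cj (G0 G) D g]
  refine hdvd.trans (Subgroup.index_dvd_of_le (sup_le (fun x hx => hS x fun ω => ?_) fun x hx => hS x (key x hx)))
  congr 1
  rw [← ω.out_eq']
  refine (QuotientGroup.eq.2 ?_ : (QuotientGroup.mk (x * ω.out) : G ⧸ T) = _)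
  have h1 := mem_G0.1 ((G0_normal (G := G)).conj_mem _ (inv_mem hx) ω.out⁻¹) K hK
  simpa [mul_assoc] using h1

end Cfsg.Agent.BH.Perm

namespace Cfsg.Agent.BH

open Cfsg.Agent.KM.BK Cfsg.Agent.TO

/-- **[PERM]** -/
theorem boxPERM {p : ℕ} [Fact p.Prime] {M : Ideal AlgInt} (CMP : BoxCMP p M) (STAR : BoxSTAR p M)
    (REG : BoxREG p M) : BoxPERM p M := by
  intro TR G _ _ B D H hO
  have := G0_normal (G := G)
  refine H.gen _ fun d hd => mem_G0.2 fun K hK => ?_
  by_contra hdK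
  obtain ⟨-, -, hc⟩ := CMP G B D H hO
  have hKt : K ≠ ⊤ := by
    rintro rfl
    exact hdK (Subgroup.le_normalizer (Subgroup.mem_top d))
  obtain ⟨h1, h2, -, θ, h3, h4, h5⟩ := hc K hK hKt
  have h6 : Zr K (D ⊓ K) θ = ⊥ := by
    by_contra h6
    obtain ⟨⟨y, hy⟩, hy1⟩ := Subgroup.ne_bot_iff_exists_ne_one.1 h6
    exact hdK (centralizer_le_normalizer_comp hO hK hy.1.2 (fun h => hy1 (Subtype.ext h))
      ((H592.Defect.isPGroup_of_isDefectGroup H.hD).to_le (Subgroup.zpowers_le.2 hy.1.1))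
      (Subgroup.mem_centralizer_iff.1 (h5 hd) y hy).symm)
  refine Perm.no_three REG H hO (fun L hL hL' => (hc L hL hL').1) hK hd hdK h2 h4.zp ?_
  refine (TR K _ _ _ _ _ h4 (fun h => h1 ?_) (Perm.zr_sub h6)).elim id fun h => STAR G B D H hO K hK hKt θ h3 ?_ h6
  · rw [← Subgroup.card_eq_one, ← KM.Mu.card_sub (inf_le_right : D ⊓ K ≤ K), h, Subgroup.card_bot]
  · unfold Small at h ⊢
    rwa [KM.Mu.card_sub (inf_le_right : D ⊓ K ≤ K)] at h

end Cfsg.Agent.BH
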