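import Cfsg.Agent.BH.Defs
import Cfsg.Agent.S0188
import Cfsg.Agent.S0967
import Cfsg.Agent.S4170

/-!
# BH, permuted components: product characters in a block and labellings (helper74)
-/

set_option autoImplicit false
set_option linter.style.haveILetI false
set_option linter.unusedSectionVars false

open Cfsg
open scoped Pointwise

namespace Cfsg.Agent.BH.Perm

open Cfsg.Agent Cfsg.Agent.Characters.Core Cfsg.Agent.Blocks Cfsg.Agent.TID.Red Cfsg.Agent.KM.BK Cfsg.Agent.TO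
open Cfsg.Agent.H592.Transport

variable {p : ℕ} [Fact p.Prime] {M : Ideal AlgInt}

theorem centralChar_outer {A C : Type} [Group A] [Group C] (φ : A → ℂ) (ψ : C → ℂ) (a : A) (c : C) :
    centralChar (fun x : A × C => φ x.1 * ψ x.2) (a, c) = centralChar φ a * centralChar ψ c := by
  have h : Subgroup.centralizer ({(a, c)} : Set (A × C)) =
      (Subgroup.centralizer ({a} : Set A)).prod (Subgroup.centralizer ({c} : Set C)) := by
    ext ⟨x, y⟩
    simp only [Subgroup.mem_prod, Subgroup.mem_centralizer_singleton_iff, Prod.mk_mul_mk, Prod.mk.injEq]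
  unfold centralChar
  rw [h, Subgroup.index_prod]
  push_cast
  rw [div_mul_div_comm]
  congr 1
  ring

theorem eq_of_prop {A : Type} [Group A] [Finite A] {a b : A → ℂ} (ha : IsIrrCharacter A a)
    (hb : IsIrrCharacter A b) (h : ∀ x, a x * b 1 = a 1 * b x) : a = b := by
  letI := Fintype.ofFinite A
  by_contra hne
  have h1 := classInner_irr_ne ha hb hne
  have h2 : a = (a 1 / b 1) • b := by
    funext x
    have h3 := isIrr_apply_one_ne_zero hb
    rw [Pi.smul_apply, smul_eq_mul, div_mul_eq_mul_div, ← h x, mul_div_cancel_right₀ _ h3]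
  rw [h2, classInner_smul_left, classInner_irr_self hb, mul_one] at h1
  exact div_ne_zero (isIrr_apply_one_ne_zero ha) (isIrr_apply_one_ne_zero hb) h1

/-- the restriction of `θ` along `ι` is a multiple of `φ` -/
def Pr {A X : Type} [Group A] [Group X] (ι : A →* X) (θ : X → ℂ) (φ : A → ℂ) : Prop :=
  ∀ a, θ (ι a) * φ 1 = θ 1 * φ a

theorem Pr.ov {A X : Type} [Group A] [Group X] [Finite A] {ι : A →* X} {θ : X → ℂ} {φ : A → ℂ}
    (h : Pr ι θ φ) (hθ : θ 1 ≠ 0) (hφ : IsIrrCharacter A φ) : Ov ι θ φ := by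
  letI := Fintype.ofFinite A
  have h3 := isIrr_apply_one_ne_zero hφ
  have h2 : (fun a => θ (ι a)) = (θ 1 / φ 1) • φ := by
    funext x
    rw [Pi.smul_apply, smul_eq_mul, div_mul_eq_mul_div, ← h x, mul_div_cancel_right₀ _ h3]
  rw [ov_iff, h2, classInner_smul_left, classInner_irr_self hφ, mul_one]
  exact div_ne_zero hθ h3

/-- **Changing one factor of a central product inside a block.** -/
theorem swap (hM : IsPModular p M) {A X : Type} [Group A] [Group X] [Finite A] [Finite X] {ι : A →* X}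
    (hι : Function.Injective ι) (hX : ∀ x : X, ∃ a, ∃ c ∈ Ce ι.range, ι a * c = x)
    (hz : ¬ p ∣ Nat.card (Subgroup.center A)) (θ : IrrCharacter X) :
    ∃ φ : IrrCharacter A, Pr ι (θ : X → ℂ) (φ : A → ℂ) ∧ ∀ φ' : IrrCharacter A,
      SameBlock M (φ : A → ℂ) (φ' : A → ℂ) → ∃ θ' : IrrCharacter X, SameBlock M (θ : X → ℂ) (θ' : X → ℂ) ∧
        Pr ι (θ' : X → ℂ) (φ' : A → ℂ) ∧
          ∀ c ∈ Ce ι.range, (θ' : X → ℂ) c * (θ : X → ℂ) 1 = (θ' : X → ℂ) 1 * (θ : X → ℂ) c := by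
  have := Local.isPrime_of_isPModular hM
  let m : A × Ce ι.range →* X := ι.noncommCoprod (Ce ι.range).subtype fun a c =>
    Subgroup.mem_centralizer_iff.1 c.2 (ι a) ⟨a, rfl⟩
  have hm' : ∀ (a : A) (c : Ce ι.range), m (a, c) = ι a * c := fun _ _ => rfl
  have hm : Function.Surjective m := by
    intro x
    obtain ⟨a, c, hc, rfl⟩ := hX x
    exact ⟨(a, ⟨c, hc⟩), rfl⟩
  have hk : ¬ p ∣ Nat.card m.ker := by
    intro h
    apply hz
    have h1 : ∀ x : m.ker, ι x.1.1 * x.1.2 = 1 := fun x => x.2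
    let f : m.ker →* Subgroup.center A := ((MonoidHom.fst _ _).comp m.ker.subtype).codRestrict _ fun x => by
      rw [Subgroup.mem_center_iff]
      intro a
      apply hι
      have h2 := Subgroup.mem_centralizer_iff.1 ((Ce ι.range).inv_mem x.1.2.2) (ι a) ⟨a, rfl⟩
      rw [← eq_inv_of_mul_eq_one_left (h1 x)] at h2
      rw [map_mul, map_mul]
      exact h2
    refine h.trans (Subgroup.card_dvd_of_injective f ?_)
    rw [injective_iff_map_eq_one]
    intro x hx
    have h2 : x.1.1 = 1 := congrArg Subtype.val hx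
    have h3 := h1 x
    rw [h2, map_one, one_mul] at h3
    exact Subtype.ext (Prod.ext h2 (Subtype.ext h3))
  obtain ⟨φ, ψ, hφ, hψ, h1⟩ := (S0188.result _).1 (isIrr_comp m hm θ.2)
  have h2 : ∀ (a : A) (c : Ce ι.range), (θ : X → ℂ) (ι a * c) = φ a * ψ c := fun a c => congrFun h1 (a, c)
  have key : ∀ (η : X → ℂ) (φ' : A → ℂ), (∀ (a : A) (c : Ce ι.range), η (ι a * c) = φ' a * ψ c) →
      Pr ι η φ' ∧ η 1 = φ' 1 * ψ 1 ∧ ∀ c : Ce ι.range, η c = φ' 1 * ψ c := by
    intro η φ' h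
    have h3 := h 1 1
    rw [map_one, Subgroup.coe_one, mul_one] at h3
    refine ⟨fun a => ?_, h3, fun c => ?_⟩
    · have h4 := h a 1
      rw [Subgroup.coe_one, mul_one] at h4
      rw [h3, h4]
      ring
    · have h4 := h 1 c
      rwa [map_one, one_mul] at h4
  refine ⟨⟨φ, hφ⟩, (key _ _ h2).1, fun φ' hφ' => ?_⟩
  let e := QuotientGroup.quotientKerEquivOfSurjective m hm
  have he : ∀ x, e (QuotientGroup.mk x) = m x := fun _ => rfl
  obtain ⟨ψ', h3, h4⟩ := S0967.result p M hM m.ker hk (tr e θ)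
    ⟨fun x => (φ' : A → ℂ) x.1 * ψ x.2, (S0188.result _).2 ⟨_, _, φ'.2, hψ, rfl⟩⟩ (by
      rintro ⟨a, c⟩
      have h5 : (tr e θ).1 ∘ QuotientGroup.mk = fun x : A × Ce ι.range => φ x.1 * ψ x.2 := h1
      rw [h5, centralChar_outer]
      change MemLocalIdeal M (_ - centralChar (fun x : A × Ce ι.range => (φ' : A → ℂ) x.1 * ψ x.2) (a, c))
      rw [centralChar_outer, ← sub_mul]
      exact Local.memLocalIdeal_mul_right (hφ' a)
        (Local.memLocalRing_of_isIntegral (Central.isIntegral_centralChar hψ c)))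
  have h5 : ∀ (a : A) (c : Ce ι.range), (tr e.symm ψ' : X → ℂ) (ι a * c) = (φ' : A → ℂ) a * ψ c := by
    intro a c
    rw [tr_apply, ← hm', ← he, e.symm_apply_apply]
    exact (congrFun h3 (a, c)).symm
  refine ⟨tr e.symm ψ', ?_, (key _ _ h5).1, fun c hc => ?_⟩
  · rw [← sameBlock_tr e, tr_tr_symm]
    exact h4
  · rw [(key _ _ h5).2.1, (key _ _ h2).2.1, (key _ _ h5).2.2 ⟨c, hc⟩, (key _ _ h2).2.2 ⟨c, hc⟩]
    ring

/-- **A member of the block with prescribed factors.** -/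
theorem family (hM : IsPModular p M) {A X Ω : Type} [Group A] [Group X] [Finite A] [Finite X] [Finite Ω]
    {ι : Ω → A →* X} (hι : ∀ ω, Function.Injective (ι ω))
    (hX : ∀ ω (x : X), ∃ a, ∃ c ∈ Ce (ι ω).range, ι ω a * c = x)
    (hc : ∀ ω ω', ω ≠ ω' → ∀ a, ι ω' a ∈ Ce (ι ω).range) (hz : ¬ p ∣ Nat.card (Subgroup.center A))
    {β : Set (IrrCharacter X)} (hβ : IsPBlock M β) {b : Set (IrrCharacter A)} (hb : IsPBlock M b)
    (hcov : ∀ θ ∈ β, ∀ ω (φ : IrrCharacter A), Pr (ι ω) (θ : X → ℂ) (φ : A → ℂ) → φ ∈ b)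
    (c : Ω → IrrCharacter A) (hcb : ∀ ω, c ω ∈ b) : ∃ θ ∈ β, ∀ ω, Pr (ι ω) (θ : X → ℂ) (c ω : A → ℂ) := by
  have := Local.isPrime_of_isPModular hM
  have key : ∀ T : Set Ω, ∃ θ ∈ β, ∀ ω ∈ T, Pr (ι ω) (θ : X → ℂ) (c ω : A → ℂ) := by
    intro T
    induction T, Set.toFinite T using Set.Finite.induction_on with
    | empty =>
      obtain ⟨θ, hθ⟩ := Basic.isPBlock_nonempty hβ
      exact ⟨θ, hθ, fun _ h => h.elim⟩
    | @insert ω T hT _ ih =>
      obtain ⟨θ, hθ, h1⟩ := ih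
      obtain ⟨φ, h2, h3⟩ := swap hM (hι ω) (hX ω) hz θ
      obtain ⟨θ', h4, h5, h6⟩ := h3 (c ω) (Basic.isPBlock_sameBlock hb (hcov θ hθ ω φ h2) (hcb ω))
      refine ⟨θ', Basic.isPBlock_mem_of_sameBlock hβ hθ h4, ?_⟩
      rintro ω' (rfl | h7)
      · exact h5
      · intro a
        have h8 := h6 _ (hc ω ω' (fun h => hT (h ▸ h7)) a)
        have h9 := h1 ω' h7 a
        apply mul_left_cancel₀ (isIrr_apply_one_ne_zero θ.2)
        linear_combination (c ω' : A → ℂ) 1 * h8 + (θ' : X → ℂ) 1 * h9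
  obtain ⟨θ, hθ, h⟩ := key Set.univ
  exact ⟨θ, hθ, fun ω => h ω trivial⟩

/-- **Two disjoint sets whose stabilizer has index divisible by `p`.** -/
theorem label {G Ω : Type} [Group G] [Finite G] [Finite Ω] [MulAction G Ω] {D : Subgroup G} (hD : IsPGroup p D)
    (hgen : ∀ (N : Subgroup G) [N.Normal], D ≤ N → N = ⊤) {d : G} (hd : d ∈ D) {ω : Ω} (hω : d • ω ≠ ω) :
    ∃ Δ₁ Δ₂ : Set Ω, Disjoint Δ₁ Δ₂ ∧ p ∣ (MulAction.stabilizer G Δ₁ ⊓ MulAction.stabilizer G Δ₂).index := by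
  classical
  by_cases hp : p = 2
  · subst hp
    obtain ⟨k, hk⟩ := hD ⟨d, hd⟩
    have hk' : d ^ 2 ^ k = 1 := congrArg Subtype.val hk
    have hex : ∃ k : ℕ, ∀ a : Ω, d ^ 2 ^ k • a = a := ⟨k, fun a => by rw [hk', one_smul]⟩
    have h0 := Nat.find_spec hex
    obtain ⟨j, hj⟩ : ∃ j, Nat.find hex = j + 1 := Nat.exists_eq_succ_of_ne_zero fun h => by
      rw [h, pow_zero, pow_one] at h0
      exact hω (h0 ω)
    have h1 := Nat.find_min hex (m := j) (by omega)
    obtain ⟨a, ha⟩ := not_forall.1 h1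
    set t := d ^ 2 ^ j with ht
    have h2 : ∀ x : Ω, t • t • x = x := fun x => by
      rw [← mul_smul, ← pow_two, ht, ← pow_mul, ← pow_succ, ← hj]
      exact h0 x
    refine ⟨{a}, {t • a}, Set.disjoint_singleton.2 (Ne.symm ha), ?_⟩
    rw [MulAction.stabilizer_singleton, MulAction.stabilizer_singleton]
    set S := MulAction.stabilizer G a ⊓ MulAction.stabilizer G (t • a) with hS
    have h3 : ∀ x : Ω, t⁻¹ • x = t • x := fun x => by rw [inv_smul_eq_iff, h2]
    have h4 : t ∈ Subgroup.normalizer (S : Set G) := by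
      refine Subgroup.mem_normalizer_fintype fun s hs => ⟨MulAction.mem_stabilizer_iff.2 ?_,
        MulAction.mem_stabilizer_iff.2 ?_⟩
      · rw [mul_smul, mul_smul, h3, MulAction.mem_stabilizer_iff.1 hs.2, h2]
      · rw [mul_smul, mul_smul, inv_smul_smul, MulAction.mem_stabilizer_iff.1 hs.1]
    refine Dvd.dvd.trans ?_ (Subgroup.relIndex_dvd_index_of_le (Subgroup.le_normalizer (H := S)))
    have h5 : orderOf (QuotientGroup.mk (s := S.subgroupOf (Subgroup.normalizer (S : Set G))) ⟨t, h4⟩) = 2 := by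
      refine orderOf_eq_prime ?_ fun h => ha ?_
      · rw [← QuotientGroup.mk_pow, QuotientGroup.eq_one_iff]
        change t ^ 2 ∈ S
        rw [pow_two]
        exact ⟨MulAction.mem_stabilizer_iff.2 (by rw [mul_smul, h2]),
          MulAction.mem_stabilizer_iff.2 (by rw [mul_smul, h2])⟩
      · exact ((QuotientGroup.eq_one_iff _).1 h).1
    rw [← h5]
    exact orderOf_dvd_natCard _
  letI := Fintype.ofFinite Ω
  let R : Subgroup (Equiv.Perm Ω) := (MulAction.toPermHom G Ω).range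
  let q : G →* R := (MulAction.toPermHom G Ω).rangeRestrict
  have hq : Function.Surjective q := (MulAction.toPermHom G Ω).rangeRestrict_surjective
  have hn : (Subgroup.closure {g : R | ∃ k : ℕ, orderOf g = p ^ k}).Normal := by
    refine ⟨fun n hn g => ?_⟩
    have h1 : Subgroup.closure {g : R | ∃ k : ℕ, orderOf g = p ^ k} ≤
        (Subgroup.closure {g : R | ∃ k : ℕ, orderOf g = p ^ k}).comap (MulAut.conj g).toMonoidHom := by
      rw [Subgroup.closure_le]
      rintro x ⟨k, hk⟩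
      exact Subgroup.subset_closure ⟨k, ((MulAut.conj g).orderOf_eq x).trans hk⟩
    exact h1 hn
  obtain ⟨Δ₁, Δ₂, -, -, h1, h2⟩ := S4170.result p hp R (fun h => by
    have h3 : MulAction.toPermHom G Ω d ∈ R := ⟨d, rfl⟩
    rw [h, Subgroup.mem_bot] at h3
    exact hω (congrArg (fun σ : Equiv.Perm Ω => σ ω) h3)) (by
      have h3 := hgen ((Subgroup.closure {g : R | ∃ k : ℕ, orderOf g = p ^ k}).comap q) fun x hx => by
        obtain ⟨k, hk⟩ := hD ⟨x, hx⟩
        have h4 : x ^ p ^ k = 1 := congrArg Subtype.val hk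
        have h5 : orderOf (q x) ∣ p ^ k := orderOf_dvd_of_pow_eq_one (by rw [← map_pow, h4, map_one])
        obtain ⟨j, -, hj⟩ := (Nat.dvd_prime_pow Fact.out).1 h5
        exact Subgroup.subset_closure ⟨j, hj⟩
      rw [← Subgroup.map_comap_eq_self_of_surjective hq (Subgroup.closure _), h3]
      exact Subgroup.map_top_of_surjective q hq)
  refine ⟨Δ₁, Δ₂, h1, ?_⟩
  rw [← Subgroup.index_comap_of_surjective _ hq] at h2
  exact h2

end Cfsg.Agent.BH.Perm
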